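import Mathlib
import Cfsg.Prelude.Def_PLocal

set_option autoImplicit false

namespace Cfsg.Agent.Lib.Helper70

open scoped commutatorElement

variable {G : Type*} [Group G]

theorem card_lt_card_of_lt [Finite G] {H K : Subgroup G} (h : H < K) : Nat.card H < Nat.card K :=
  lt_of_le_of_ne (Subgroup.card_le_of_le h.le)
    (fun e => h.ne (Subgroup.eq_of_le_of_card_ge h.le e.ge))

/-- If `x`, `y` normalize `Ω` and `⁅x, y⁆ ∈ Ω` then the derived subgroup of `⟨x, y⟩` lies in `Ω`. -/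
theorem commutator_closure_pair_le (Ω : Subgroup G) (x y : G)
    (hx : x ∈ Subgroup.normalizer (Ω : Set G)) (hy : y ∈ Subgroup.normalizer (Ω : Set G))
    (hc : ⁅x, y⁆ ∈ Ω) :
    ⁅Subgroup.closure ({x, y} : Set G), Subgroup.closure ({x, y} : Set G)⁆ ≤ Ω := by
  have hK : Subgroup.closure ({x, y} : Set G) ≤ Subgroup.normalizer (Ω : Set G) := by
    rw [Subgroup.closure_le]
    intro z hz
    rcases hz with rfl | rfl
    · exact hx
    · exact hy
  have hconj : ∀ g ∈ Subgroup.closure ({x, y} : Set G), ∀ w ∈ Ω, g * w * g⁻¹ ∈ Ω := by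
    intro g hg w hw
    exact (Subgroup.mem_normalizer_iff.mp (hK hg) w).mp hw
  have hconj' : ∀ g ∈ Subgroup.closure ({x, y} : Set G), ∀ w ∈ Ω, g⁻¹ * w * g ∈ Ω := by
    intro g hg w hw
    have := hconj g⁻¹ (Subgroup.inv_mem _ hg) w hw
    simpa using this
  rw [Subgroup.commutator_le]
  intro a ha b hb
  induction ha, hb using Subgroup.closure_induction₂ with
  | mem a b ha hb =>
    rcases ha with rfl | rfl <;> rcases hb with rfl | rfl
    · simp
    · exact hc
    · rw [← commutatorElement_inv]; exact Ω.inv_mem hc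
    · simp
  | one_left a ha => simp
  | one_right a ha => simp
  | mul_left a b c ha hb hc h1 h2 =>
    rw [commutatorElement_mul_left_eq_conj_mul]
    exact Ω.mul_mem (hconj a ha _ h2) h1
  | mul_right b c a hb hc ha h1 h2 =>
    rw [commutatorElement_mul_right_eq_mul_conj, mul_assoc, mul_assoc, ← mul_assoc b]
    exact Ω.mul_mem h1 (hconj b hb _ h2)
  | inv_left a b ha hb h =>
    rw [commutatorElement_inv_left, ← commutatorElement_inv]
    exact hconj' a ha _ (Ω.inv_mem h)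
  | inv_right a b ha hb h =>
    rw [commutatorElement_inv_right, ← commutatorElement_inv]
    exact hconj' b hb _ (Ω.inv_mem h)

/-- In a finite `p`-group, a subgroup `K` that is not generated by `x ∈ K` has a proper subgroup `M`
containing `x` which is normalized by `K`. -/
theorem exists_normal_proper_of_zpowers_ne [Finite G] {p : ℕ} [Fact p.Prime] (hG : IsPGroup p G)
    (K : Subgroup G) (x : G) (hx : x ∈ K) (hne : Subgroup.zpowers x ≠ K) :
    ∃ M : Subgroup G, M < K ∧ x ∈ M ∧ ∀ g ∈ K, ∀ m ∈ M, g * m * g⁻¹ ∈ M := by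
  have hKp : IsPGroup p K := hG.to_subgroup K
  have : Group.IsNilpotent K := hKp.isNilpotent
  have hnc : NormalizerCondition K := Group.normalizerCondition_of_isNilpotent
  have hZ : (Subgroup.zpowers x).subgroupOf K ≠ ⊤ := by
    intro h
    rw [Subgroup.subgroupOf_eq_top] at h
    apply hne
    apply le_antisymm _ h
    rw [Subgroup.zpowers_le]
    exact hx
  obtain ⟨M0, hM0, hle⟩ := (eq_top_or_exists_le_coatom _).resolve_left hZ
  have hM0n : M0.Normal := Subgroup.NormalizerCondition.normal_of_coatom M0 hnc hM0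
  refine ⟨M0.map K.subtype, ?_, ?_, ?_⟩
  · refine lt_of_le_of_ne (Subgroup.map_subtype_le _) ?_
    intro h
    apply hM0.1
    rw [eq_top_iff]
    intro z _
    have hz : z.1 ∈ M0.map K.subtype := by rw [h]; exact z.2
    obtain ⟨w, hw, hwz⟩ := Subgroup.mem_map.mp hz
    have : w = z := Subtype.ext hwz
    rwa [← this]
  · refine Subgroup.mem_map.mpr ⟨⟨x, hx⟩, hle ?_, rfl⟩
    rw [Subgroup.mem_subgroupOf]
    exact Subgroup.mem_zpowers x
  · intro g hg m hm
    obtain ⟨w, hw, rfl⟩ := Subgroup.mem_map.mp hm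
    exact Subgroup.mem_map.mpr ⟨⟨g, hg⟩ * w * ⟨g, hg⟩⁻¹, hM0n.conj_mem w hw _, rfl⟩

/-- key consequence of regularity -/
theorem mul_pow_of_commutator_pow_eq_one {p : ℕ} (hG : Cfsg.IsRegularPGroup p G) (k : ℕ) (x y : G)
    (hΩ : ∀ a ∈ ⁅Subgroup.closure ({x, y} : Set G), Subgroup.closure ({x, y} : Set G)⁆,
      ∀ b ∈ ⁅Subgroup.closure ({x, y} : Set G), Subgroup.closure ({x, y} : Set G)⁆,
      a ^ p ^ k = 1 → b ^ p ^ k = 1 → (a * b) ^ p ^ k = 1)
    (hc : ⁅x, y⁆ ^ p ^ k = 1) :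
    ∀ u ∈ Subgroup.closure ({x, y} : Set G), ∀ v ∈ Subgroup.closure ({x, y} : Set G),
      (u * v) ^ p ^ k = u ^ p ^ k * v ^ p ^ k := by
  set K := Subgroup.closure ({x, y} : Set G) with hK
  have hxK : x ∈ K := Subgroup.subset_closure (by simp)
  have hyK : y ∈ K := Subgroup.subset_closure (by simp)
  let Ω : Subgroup G :=
    { carrier := {g | g ∈ ⁅K, K⁆ ∧ g ^ p ^ k = 1}
      one_mem' := ⟨Subgroup.one_mem _, one_pow _⟩
      mul_mem' := fun {a b} ha hb => ⟨Subgroup.mul_mem _ ha.1 hb.1, hΩ a ha.1 b hb.1 ha.2 hb.2⟩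
      inv_mem' := fun {a} ha => ⟨Subgroup.inv_mem _ ha.1, by rw [inv_pow, ha.2, inv_one]⟩ }
  have hΩmem : ∀ g, g ∈ Ω ↔ g ∈ ⁅K, K⁆ ∧ g ^ p ^ k = 1 := fun g => Iff.rfl
  have hnorm : ∀ g ∈ K, g ∈ Subgroup.normalizer (Ω : Set G) := by
    intro g hg
    have hgN : g ∈ Subgroup.normalizer ((⁅K, K⁆ : Subgroup G) : Set G) :=
      Subgroup.normalizer_commutator_ge_left K K hg
    rw [Subgroup.mem_normalizer_iff] at hgN ⊢
    intro w
    rw [hΩmem, hΩmem, ← hgN w, conj_pow]
    constructor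
    · rintro ⟨h1, h2⟩
      exact ⟨h1, by rw [h2]; simp⟩
    · rintro ⟨h1, h2⟩
      refine ⟨h1, ?_⟩
      have := congrArg (fun z => g⁻¹ * z * g) h2
      simpa [mul_assoc] using this
  have hle : ⁅K, K⁆ ≤ Ω :=
    commutator_closure_pair_le Ω x y (hnorm x hxK) (hnorm y hyK)
      ⟨Subgroup.commutator_mem_commutator hxK hyK, hc⟩
  intro u hu v hv
  obtain ⟨c, hcm, hceq⟩ := hG.2 u v k
  have huv : Subgroup.closure ({u, v} : Set G) ≤ K := by
    rw [Subgroup.closure_le]
    intro z hz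
    rcases hz with rfl | rfl
    · exact hu
    · exact hv
  have hbot : Cfsg.powerClosure p k ⁅Subgroup.closure ({u, v} : Set G), Subgroup.closure ({u, v} : Set G)⁆ = ⊥ := by
    rw [Cfsg.powerClosure, Subgroup.closure_eq_bot_iff]
    rintro z ⟨w, hw, rfl⟩
    exact (hle (Subgroup.commutator_mono huv huv hw)).2
  rw [hbot, Subgroup.mem_bot] at hcm
  rw [hceq, hcm, mul_one]

/-- Main claim for regular `p`-groups. -/
theorem IsRegularPGroup.inv_mul_pow_eq_one [Finite G] {p : ℕ} [Fact p.Prime]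
    (hG : Cfsg.IsRegularPGroup p G) (k : ℕ) (x y : G) (h : x ^ p ^ k = y ^ p ^ k) :
    (x⁻¹ * y) ^ p ^ k = 1 := by
  have : Group.IsNilpotent G := hG.1.isNilpotent
  induction hn : Nat.card (Subgroup.closure ({x, y} : Set G)) using Nat.strong_induction_on
    generalizing x y with
  | _ n ih =>
  subst hn
  set K := Subgroup.closure ({x, y} : Set G) with hK
  have hxK : x ∈ K := Subgroup.subset_closure (by simp)
  have hyK : y ∈ K := Subgroup.subset_closure (by simp)
  by_cases hcomm : Commute x y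
  · rw [(hcomm.inv_left).mul_pow, inv_pow, h, inv_mul_cancel]
  have hcard_lt : ∀ (M : Subgroup G), M < K → ∀ a ∈ M, ∀ b ∈ M,
      Nat.card (Subgroup.closure ({a, b} : Set G)) < Nat.card K := by
    intro M hM a ha b hb
    have hle : Subgroup.closure ({a, b} : Set G) ≤ M := by
      rw [Subgroup.closure_le]
      intro z hz
      rcases hz with rfl | rfl
      · exact ha
      · exact hb
    exact card_lt_card_of_lt (lt_of_le_of_lt hle hM)
  -- `zpowers x ≠ K`
  have hne : Subgroup.zpowers x ≠ K := by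
    intro hz
    apply hcomm
    have : y ∈ Subgroup.zpowers x := by rw [hz]; exact hyK
    obtain ⟨m, rfl⟩ := Subgroup.mem_zpowers_iff.mp this
    exact (Commute.refl x).zpow_right m
  obtain ⟨M, hMK, hxM, hMn⟩ := exists_normal_proper_of_zpowers_ne hG.1 K x hxK hne
  -- the commutator has trivial power
  have hx' : y⁻¹ * x * y ∈ M := by
    have := hMn y⁻¹ (K.inv_mem hyK) x hxM
    simpa using this
  have hpow' : x ^ p ^ k = (y⁻¹ * x * y) ^ p ^ k := by
    have : (y⁻¹ * x * y) ^ p ^ k = y⁻¹ * x ^ p ^ k * y := by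
      have := conj_pow (i := p ^ k) (a := y⁻¹) (b := x)
      simpa using this
    rw [this, h]
    group
  have hc1 : (x⁻¹ * (y⁻¹ * x * y)) ^ p ^ k = 1 :=
    ih _ (hcard_lt M hMK x hxM _ hx') x _ hpow' rfl
  have hc : ⁅x, y⁆ ^ p ^ k = 1 := by
    have e : ⁅x, y⁆ = (y * x) * (x⁻¹ * (y⁻¹ * x * y)) * (y * x)⁻¹ := by
      rw [commutatorElement_def]; group
    rw [e, conj_pow, hc1]; simp
  have hKbot : K ≠ ⊥ := by
    intro hb
    apply hcomm
    have hx1 : x = 1 := by rw [hb] at hxK; exact Subgroup.mem_bot.mp hxK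
    rw [hx1]; exact Commute.one_left y
  have hD : ⁅K, K⁆ < K := Group.IsSolvable.commutator_lt_of_ne_bot hKbot
  have hΩ : ∀ a ∈ ⁅K, K⁆, ∀ b ∈ ⁅K, K⁆, a ^ p ^ k = 1 → b ^ p ^ k = 1 → (a * b) ^ p ^ k = 1 := by
    intro a ha b hb ha1 hb1
    have := ih _ (hcard_lt _ hD a⁻¹ (Subgroup.inv_mem _ ha) b hb) a⁻¹ b (by rw [inv_pow, ha1, hb1, inv_one]) rfl
    simpa using this
  have := mul_pow_of_commutator_pow_eq_one hG k x y hΩ hc x⁻¹ (K.inv_mem hxK) y hyK
  rw [this, inv_pow, h, inv_mul_cancel]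

theorem IsRegularPGroup.mul_pow_eq_one [Finite G] {p : ℕ} [Fact p.Prime]
    (hG : Cfsg.IsRegularPGroup p G) (k : ℕ) (a b : G) (ha : a ^ p ^ k = 1) (hb : b ^ p ^ k = 1) :
    (a * b) ^ p ^ k = 1 := by
  have := IsRegularPGroup.inv_mul_pow_eq_one hG k a⁻¹ b (by rw [inv_pow, ha, hb, inv_one])
  simpa using this

theorem IsRegularPGroup.pow_eq_pow_of_inv_mul_pow_eq_one [Finite G] {p : ℕ} [Fact p.Prime]
    (hG : Cfsg.IsRegularPGroup p G) (k : ℕ) (x y : G) (h : (x⁻¹ * y) ^ p ^ k = 1) :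
    x ^ p ^ k = y ^ p ^ k := by
  set z := x⁻¹ * y with hz
  have hc : ⁅x, z⁆ ^ p ^ k = 1 := by
    have e : ⁅x, z⁆ = (x * z * x⁻¹) * z⁻¹ := by rw [commutatorElement_def]
    rw [e]
    apply IsRegularPGroup.mul_pow_eq_one hG
    · rw [conj_pow, h]; simp
    · rw [inv_pow, h, inv_one]
  have := mul_pow_of_commutator_pow_eq_one hG k x z
    (fun a _ b _ ha hb => IsRegularPGroup.mul_pow_eq_one hG k a b ha hb) hc
    x (Subgroup.subset_closure (by simp)) z (Subgroup.subset_closure (by simp))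
  have e : x * z = y := by rw [hz]; group
  rw [e, h, mul_one] at this
  exact this.symm

end Cfsg.Agent.Lib.Helper70
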