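/-
Helper library (helper70): piece P8 of helper25's split of Bender-Glauberman Theorem 11.7.
-/
import Cfsg.Agent.Lib.Helper31.BG11Ifc
import Cfsg.Agent.Lib.Helper31.BG11a
import Cfsg.Agent.Lib.Helper72.HH5
import Cfsg.Agent.Lib.Helper72.CoprimeC
import Cfsg.Agent.S3769

set_option autoImplicit false

namespace Cfsg.Agent.Lib.Helper70.BG11P8

open Subgroup Cfsg
open Cfsg.Agent.Lib
open Cfsg.Agent.Lib.Helper24 Cfsg.Agent.Lib.Helper34 Cfsg.Agent.Lib.Helper31.BG11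

universe u

variable {G : Type u} [Group G]

/-- `Ω₁(Z(W))`. -/
def omZ (q : ℕ) (W : Subgroup G) : Subgroup G where
  carrier := {x | x ∈ W ∧ x ∈ centralizer (W : Set G) ∧ x ^ q = 1}
  one_mem' := ⟨one_mem _, one_mem _, one_pow _⟩
  mul_mem' := by
    rintro a b ⟨ha, hac, haq⟩ ⟨hb, hbc, hbq⟩
    refine ⟨mul_mem ha hb, mul_mem hac hbc, ?_⟩
    have : Commute a b := (mem_centralizer_iff.mp hbc a ha)
    rw [this.mul_pow, haq, hbq, one_mul]
  inv_mem' := by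
    rintro a ⟨ha, hac, haq⟩
    exact ⟨inv_mem ha, inv_mem hac, by rw [inv_pow, haq, inv_one]⟩

theorem mem_omZ {q : ℕ} {W : Subgroup G} {x : G} :
    x ∈ omZ q W ↔ x ∈ W ∧ x ∈ centralizer (W : Set G) ∧ x ^ q = 1 := Iff.rfl

theorem omZ_le (q : ℕ) (W : Subgroup G) : omZ q W ≤ W := fun _ h => h.1

theorem omZ_elem (q : ℕ) (W : Subgroup G) : IsElementaryAbelian q (omZ q W) := by
  refine ⟨le_centralizer_iff_isMulCommutative.mp ?_, fun a ha => ha.2.2⟩
  intro a ha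
  rw [mem_centralizer_iff]
  intro b hb
  exact mem_centralizer_iff.mp ha.2.1 b hb.1

theorem omZ_norm (q : ℕ) (W : Subgroup G) : normalizer (W : Set G) ≤ normalizer (omZ q W : Set G) := by
  rw [le_normalizer_iff]
  intro g hg x hx
  refine ⟨(mem_normalizer_iff.mp hg x).mp hx.1,
    (le_normalizer_iff.mp (normalizer_le_normalizer_centralizer W)) g hg x hx.2.1, ?_⟩
  rw [conj_pow, hx.2.2]; group

variable [Finite G]

/-- the case `|Ω₁(Z(W))| = q ^ 2` is impossible -/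
theorem false_of_sq (hG : IsMinSimpleOddOrder G) (hU : UT G) (hPL : PL1 G)
    {M B : Subgroup G} {q : ℕ} [hq' : Fact q.Prime] (hM : IsCoatom M) (hq : q ∉ sigma M)
    (hBM : B ≤ M) (hMB : M ≤ normalizer (B : Set G)) (hBe : IsElementaryAbelian q B)
    (hBc : Nat.card B = q ^ 2)
    (hBH : B ≤ centralizer (sigmaCore M : Set G)) (hH1 : sigmaCore M ≠ ⊥) : False := by
  have hE : E2 q B := ⟨hBe, hBc, fun _ hC hBC => sigma'_rank2_max hG hU hM hq hBM hBe hBc hC hBC⟩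
  have hB1 : B ≠ ⊥ := hE.ne_bot
  have hBtop : B ≠ ⊤ := MS_isPGroup_ne_top hG hE.pg
  have hNB : normalizer (B : Set G) = M := by
    by_contra hne
    exact MS_normalizer_ne_top hG hB1 hBtop (hM.2 _ (lt_of_le_of_ne hMB (Ne.symm hne)))
  have hCB : centralizer (B : Set G) ≤ M := by
    rw [← hNB]; exact centralizer_le_normalizer _
  obtain ⟨S, hS, hBS⟩ := exists_isSylowIn_ge hBM hE.pg
  have hqM : q ∣ Nat.card M := (Dvd.intro_left q (by rw [hBc]; ring)).trans (card_dvd_of_le hBM)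
  obtain ⟨x, hxS, hxM⟩ : ∃ x ∈ normalizer (S : Set G), x ∉ M := by
    by_contra hcon
    push Not at hcon
    exact hq (mem_sigma_iff.mpr ⟨hqM, S, hS, hcon⟩)
  have hSx : cj x S = S := map_conj_eq_self_of_mem_normalizer hxS
  have hS1 : S ≠ ⊥ := fun h => hB1 (le_bot_iff.mp (h ▸ hBS))
  obtain ⟨z, hzS, hzC, hz1, hzq⟩ := exists_central_order_p hS.2.1 hS1
  have hzB : z ∈ B := (hE.omega (centralizer_le (by exact_mod_cast hBS) hzC)).mp hzq
  have hBxS : cj x B ≤ S := by rw [← hSx]; exact cj_mono x hBS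
  have hzBx : z ∈ cj x B := ((hE.cj x).omega (centralizer_le (by exact_mod_cast hBxS) hzC)).mp hzq
  have := MS_simple hG
  have hHtop : centralizer ({z} : Set G) ≠ ⊤ :=
    Helper23.centralizer_singleton_ne_top_of_simple hG.2.2.1 hz1
  have key : ∀ K : Subgroup G, z ∈ centralizer (K : Set G) → K ≤ centralizer ({z} : Set G) := by
    intro K hK y hy
    rw [mem_centralizer_singleton_iff]
    exact mem_centralizer_iff.mp hK y hy
  have hBH' : B ≤ centralizer ({z} : Set G) := key B (hE.comm hzB)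
  have h1 : sigmaCore M ≤ centralizer ({z} : Set G) := key _ (hBH hzB)
  have h2 : cj x (sigmaCore M) ≤ centralizer ({z} : Set G) := by
    apply key
    rw [centralizer_map_conj]
    exact cj_mono x hBH hzBx
  obtain ⟨r, hr, hrd⟩ := Nat.exists_prime_and_dvd (fun h => hH1 (card_eq_one.mp h))
  have : Fact r.Prime := ⟨hr⟩
  have hrs : r ∈ sigma M := sc_primes M hr hrd
  have hqsc : ¬ q ∣ Nat.card (sigmaCore M) := fun hd => hq (sc_primes M hq'.out hd)
  obtain ⟨Q₁, hQ₁, hBQ₁⟩ := exists_inv_sylow hE.pg hqsc (hBM.trans (sc_norm M)) r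
  have hMx := isCoatom_cj hM x
  have hrs' := sigma_cj hrs x
  have hBMx : B ≤ cj x M := hBS.trans (by rw [← hSx]; exact cj_mono x hS.1)
  have hqsc' : ¬ q ∣ Nat.card (sigmaCore (cj x M)) := by rw [sc_cj, card_map_conj]; exact hqsc
  obtain ⟨Q₂, hQ₂, hBQ₂⟩ := exists_inv_sylow hE.pg hqsc' (hBMx.trans (sc_norm _)) r
  have hQ₁M := sc_sylow hG hU hM hrs hQ₁
  have hQ₂M := sc_sylow hG hU hMx hrs' hQ₂
  have hT := hE.trans hG hPL
  have m₁ := maxInvQ_of_sylow_top (sigma_isSylowIn_top hrs hQ₁M) hBQ₁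
  have m₂ := maxInvQ_of_sylow_top (sigma_isSylowIn_top hrs' hQ₂M) hBQ₂
  have hrB : ¬ r ∣ Nat.card B := by
    rw [hBc]
    intro hd
    have : r = q := (Nat.prime_dvd_prime_iff_eq hr hq'.out).mp (hr.dvd_of_dvd_pow hd)
    exact hq (this ▸ hrs)
  have hQ₁1 : Q₁ ≠ ⊥ := sylow_ne_bot_of_dvd hQ₁ hrd
  have hQ₂1 : Q₂ ≠ ⊥ := sylow_ne_bot_of_dvd hQ₂ (by rw [sc_cj, card_map_conj]; exact hrd)
  have hQ₂H : Q₂ ≤ centralizer ({z} : Set G) := by
    refine le_trans ?_ h2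
    rw [← sc_cj]
    exact hQ₂.1
  obtain ⟨k, hk, hkQ⟩ := Helper23.TransHyp.conj_of_common_overgroup hG hT r hrB Q₁ Q₂ m₁ m₂
    (centralizer ({z} : Set G)) hHtop hBH'
    (by rw [inf_eq_right.mpr (hQ₁.1.trans h1)]; exact hQ₁1)
    (by rw [inf_eq_right.mpr hQ₂H]; exact hQ₂1)
  have hkM : k ∈ M := hCB (Helper23.piCoreOf_le _ _ hk)
  have h3 : IsSylowIn r Q₂ M := by
    have := hQ₁M.map_conj k
    rw [map_conj_eq_self_of_mem hkM] at this
    rw [← hkQ]
    exact this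
  exact hxM (mem_of_sigma_sylow_le hrs h3 hQ₂M.1)

/-- (P8) of helper25's BG 11.7 farm. -/
theorem exists_normal_order_q (hG : IsMinSimpleOddOrder G) (hU : UT G) (hPL : PL1 G)
    {M W : Subgroup G} {q : ℕ} [Fact q.Prime] (hM : IsCoatom M) (hq : q ∉ sigma M)
    (hW : IsPGroup q W) (hWM : W ≤ M) (hMW : M ≤ normalizer (W : Set G))
    (hWH : W ≤ centralizer (sigmaCore M : Set G)) (hW1 : W ≠ ⊥) (hH1 : sigmaCore M ≠ ⊥) :
    ∃ Y : Subgroup G, Y ≤ W ∧ Nat.card Y = q ∧ M ≤ normalizer (Y : Set G) ∧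
      ∀ x ∈ W, x ∈ centralizer (W : Set G) → x ^ q = 1 → x ∈ Y := by
  have hqp : q.Prime := Fact.out
  have hZe := omZ_elem q W
  have hZM : omZ q W ≤ M := (omZ_le q W).trans hWM
  have hMZ : M ≤ normalizer (omZ q W : Set G) := hMW.trans (omZ_norm q W)
  have hZ1 : omZ q W ≠ ⊥ := by
    obtain ⟨z, hzW, hzC, hz1, hzq⟩ := exists_central_order_p hW hW1
    intro h
    have : z ∈ omZ q W := ⟨hzW, hzC, hzq⟩
    rw [h, mem_bot] at this
    exact hz1 this
  have hr2 : PRankLE q 2 M := by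
    by_contra h
    exact hq (alpha_subset_sigma hG hU hM ⟨hqp, h⟩)
  have hle : Nat.card (omZ q W) ≤ q ^ 2 := (pRankLE_iff M).mp hr2 _ hZM hZe.1 hZe.2
  obtain ⟨k, hk⟩ := IsPGroup.iff_card.mp (isPGroup_of_exponent hZe.2)
  have hk0 : k ≠ 0 := by
    rintro rfl
    rw [pow_zero] at hk
    exact hZ1 (card_eq_one.mp hk)
  have hk2 : k ≤ 2 := by
    rw [hk] at hle
    exact (Nat.pow_le_pow_iff_right hqp.one_lt).mp hle
  have hk12 : k = 1 ∨ k = 2 := by omega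
  rcases hk12 with rfl | rfl
  · exact ⟨omZ q W, omZ_le q W, by rw [hk, pow_one], hMZ, fun x h1 h2 h3 => ⟨h1, h2, h3⟩⟩
  · exact (false_of_sq hG hU hPL hM hq hZM hMZ hZe hk ((omZ_le q W).trans hWH) hH1).elim

end Cfsg.Agent.Lib.Helper70.BG11P8
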