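import Cfsg.Agent.Lib.Helper83.ExtMain
import Cfsg.Agent.Lib.Helper94.SLGen

set_option autoImplicit false
set_option linter.unusedSectionVars false

namespace Cfsg.Agent.Lib.Helper70.ExtW

open Module Cfsg.Agent.Lib.Helper83.Ext Cfsg.Agent.Lib.Helper94

section abs

variable {F KT : Type*} [Field F] [Field KT] [Algebra F KT] {n : ℕ}
  [Module KT (Fin n → F)] [IsScalarTower F KT (Fin n → F)]

local notation "Vn" => (Fin n → F)
local notation "E" => glEquiv (Fin n) F
local notation "SL" => Cfsg.Geo.specialLinear (Fin n) F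

lemma mem_SL_iff (g : GL (Fin n) F) : g ∈ SL ↔ LinearEquiv.det (E g) = 1 := by
  rw [Cfsg.Geo.specialLinear, MonoidHom.mem_ker, ← Units.val_inj, ← Units.val_inj (a := LinearEquiv.det _),
    LinearEquiv.coe_det, glEquiv_det]
  simp

lemma mem_SL_iff' (g : GL (Fin n) F) : g ∈ SL ↔ (g : Matrix (Fin n) (Fin n) F).det = 1 := by
  rw [Cfsg.Geo.specialLinear, MonoidHom.mem_ker, ← Units.val_inj]
  simp

/-- functional vanishing at `c`, equal to one at `u`. -/
lemma exists_dual {k W : Type*} [Field k] [AddCommGroup W] [Module k W] (c u : W)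
    (h : ∀ a : k, u ≠ a • c) : ∃ η : Dual k W, η c = 0 ∧ η u = 1 := by
  have hu : u ∉ (k ∙ c) := by
    intro hu
    obtain ⟨a, ha⟩ := Submodule.mem_span_singleton.1 hu
    exact h a ha.symm
  obtain ⟨f, hf, hp⟩ := Submodule.exists_le_ker_of_notMem hu
  refine ⟨(f u)⁻¹ • f, ?_, ?_⟩
  · have : f c = 0 := hp (Submodule.mem_span_singleton_self c)
    simp [this]
  · simp [hf]

variable (KT) in
/-- KEY: an overgroup of `N ⊓ SL` not inside `N` contains `SL`. -/
lemma key [Finite KT] [FiniteDimensional KT Vn] (hn : 2 ≤ n) (hr : (finrank F KT).Prime)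
    (hm : 2 ≤ finrank KT Vn) (N : Subgroup (GL (Fin n) F)) (hN : ∀ g, g ∈ N ↔ IsSemi KT (E g))
    (M : Subgroup (GL (Fin n) F)) (h1 : N ⊓ SL ≤ M) (h2 : ¬ M ≤ N) : SL ≤ M := by
  have : Nontrivial (Fin n) := Fin.nontrivial_iff_two_le.2 hn
  have hH : HasH KT (M.map (E).toMonoidHom) := by
    intro e he hdet
    refine ⟨(E).symm e, h1 (Subgroup.mem_inf.2 ⟨?_, ?_⟩), by simp⟩
    · rw [hN]; simpa using he
    · rw [mem_SL_iff]; simpa using hdet
  obtain ⟨g, hgM, hgN⟩ := SetLike.not_le_iff_exists.1 h2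
  have hall := main (K := KT) hr hm hH (g := E g) ⟨g, hgM, rfl⟩ (fun h => hgN ((hN g).2 h))
  intro h hh
  obtain ⟨h', hh', he⟩ := mem_of_det_eq_one _ hall h ((mem_SL_iff' h).1 hh)
  have : h' = h := (E).injective he
  rwa [← this]

variable (KT) in
/-- some transvection is not semilinear. -/
lemma not_le [FiniteDimensional KT Vn] (hr : 2 ≤ finrank F KT) [FiniteDimensional F KT]
    (hm : 2 ≤ finrank KT Vn) (N : Subgroup (GL (Fin n) F)) (hN : ∀ g, g ∈ N ↔ IsSemi KT (E g)) :
    ¬ SL ≤ N := by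
  intro hle
  obtain ⟨c, hc⟩ : ∃ c : Vn, c ≠ 0 := by
    obtain ⟨w, hw⟩ := exists_not_mem_line (K := KT) hm (0 : Vn)
    exact ⟨w, fun h => hw 0 (by simp [h])⟩
  obtain ⟨u, hu⟩ := exists_not_mem_line (K := KT) hm c
  obtain ⟨k, hk⟩ := exists_not_mem_line (K := F) (V := KT) hr (1 : KT)
  obtain ⟨η, hηc, hηu⟩ := exists_dual (k := KT) c u hu
  obtain ⟨ξ, hξk, hξ1⟩ := exists_dual (k := F) k (1 : KT) (by
    intro a ha
    have ha0 : a ≠ 0 := by
      rintro rfl
      simp at ha
    apply hk a⁻¹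
    rw [ha, smul_smul, inv_mul_cancel₀ ha0, one_smul])
  let f : Dual F Vn := ξ ∘ₗ (η.restrictScalars F)
  have hfc : f c = 0 := by simp [f, hηc]
  have hmem : (E).symm (LinearEquiv.transvection hfc) ∈ N := by
    apply hle
    rw [mem_SL_iff]
    simp
  rw [hN] at hmem
  simp only [MulEquiv.apply_symm_apply] at hmem
  obtain ⟨k', hk'⟩ := hmem k
  have h1 := hk' u
  simp only [LinearEquiv.transvection.apply, f, LinearMap.coe_comp, Function.comp_apply,
    LinearMap.coe_restrictScalars, map_smul, hηu, smul_eq_mul, mul_one, hξk, hξ1, zero_smul, add_zero,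
    one_smul] at h1
  have h2 : (k - k') • u = k' • c := by
    rw [sub_smul, h1, smul_add]; abel
  by_cases hkk : k = k'
  · rw [hkk, sub_self, zero_smul] at h2
    have h3 := (smul_eq_zero.1 h2.symm).resolve_right hc
    apply hk 0
    rw [hkk, h3, zero_smul]
  · have hne : k - k' ≠ 0 := sub_ne_zero.2 hkk
    apply hu ((k - k')⁻¹ * k')
    rw [mul_smul, ← h2, smul_smul, inv_mul_cancel₀ hne, one_smul]

variable (KT) in
/-- semilinear maps realise every determinant. -/
lemma exists_det [Finite KT] [FiniteDimensional KT Vn]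
    (hm : 2 ≤ finrank KT Vn) (N : Subgroup (GL (Fin n) F)) (hN : ∀ g, g ∈ N ↔ IsSemi KT (E g))
    (g : GL (Fin n) F) : ∃ h ∈ N, g * h⁻¹ ∈ SL := by
  have : FiniteDimensional F KT := Module.Finite.of_finite
  obtain ⟨t, ht⟩ : ∃ c : Vn, c ≠ 0 := by
    obtain ⟨w, hw⟩ := exists_not_mem_line (K := KT) hm (0 : Vn)
    exact ⟨w, fun h => hw 0 (by simp [h])⟩
  obtain ⟨η, -, hηt⟩ := exists_dual (k := KT) (0 : Vn) t (by simpa using ht)
  obtain ⟨α, hα⟩ := FiniteField.norm_surjective F KT ((LinearEquiv.det (E g) : Fˣ) : F)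
  have hα0 : α ≠ 0 := by
    rintro rfl
    rw [Algebra.norm_zero] at hα
    exact (Units.ne_zero _) hα.symm
  have hu : IsUnit (1 + η ((α - 1) • t)) := by
    rw [map_smul, hηt]
    simpa using hα0
  have hdet : LinearEquiv.det (kd F hu) = LinearEquiv.det (E g) := by
    apply Units.ext
    rw [kd, det_restrictScalars_equiv, LinearEquiv.coe_det, ← hα]
    simp [hηt]
  refine ⟨(E).symm (kd F hu), ?_, ?_⟩
  · rw [hN, MulEquiv.apply_symm_apply]
    exact isSemi_restrictScalars _
  · rw [mem_SL_iff, map_mul, map_inv, map_mul, map_inv]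
    simp [hdet]

variable (KT) in
/-- the abstract form of the statement. -/
theorem wrapAbs [Finite KT] [FiniteDimensional KT Vn] (hn : 2 ≤ n) (hr : (finrank F KT).Prime)
    (hm : 2 ≤ finrank KT Vn) (N : Subgroup (GL (Fin n) F)) (hN : ∀ g, g ∈ N ↔ IsSemi KT (E g)) :
    IsCoatom N ∧ Cfsg.Geo.IsMaximalIn SL (N ⊓ SL) := by
  have : FiniteDimensional F KT := Module.Finite.of_finite
  have hnle := not_le KT hr.two_le hm N hN
  refine ⟨⟨?_, ?_⟩, ⟨?_, ?_⟩⟩
  · rintro rfl
    exact hnle le_top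
  · intro M hM
    have hSL : SL ≤ M := key KT hn hr hm N hN M (inf_le_left.trans hM.le) (not_le_of_gt hM)
    rw [eq_top_iff]
    intro g _
    obtain ⟨h, hh, hgh⟩ := exists_det KT hm N hN g
    have := M.mul_mem (hSL hgh) (hM.le hh)
    simpa using this
  · refine lt_of_le_of_ne inf_le_right ?_
    intro h
    exact hnle (h ▸ inf_le_left)
  · intro M h1 h2
    by_cases hMN : M ≤ N
    · left
      exact le_antisymm (le_inf hMN h2) h1
    · right
      exact le_antisymm h2 (key KT hn hr hm N hN M h1 hMN)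

variable (KT) in
/-- the same with the dimension hypothesis in the form `[KT : F] < n`. -/
theorem wrapAbs' [Finite KT] [FiniteDimensional KT Vn] (hr : (finrank F KT).Prime)
    (hlt : finrank F KT < n) (N : Subgroup (GL (Fin n) F)) (hN : ∀ g, g ∈ N ↔ IsSemi KT (E g)) :
    IsCoatom N ∧ Cfsg.Geo.IsMaximalIn SL (N ⊓ SL) := by
  have hr2 := hr.two_le
  have hmul := Module.finrank_mul_finrank F KT Vn
  rw [Module.finrank_fin_fun] at hmul
  have hm : 2 ≤ finrank KT Vn := by
    by_contra hcon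
    have : finrank KT Vn ≤ 1 := by omega
    nlinarith
  exact wrapAbs KT (by omega) hr hm N hN

end abs

section conc

variable {F : Type*} [Field F] [Fintype F] {n r : ℕ} (K : Subalgebra F (Matrix (Fin n) (Fin n) F))

/-- the subalgebra as a bare type, carrying only the instances declared below. -/
def KT (_hK : Cfsg.Geo.IsFieldSubalgebra r K) (_hn : 0 < n) : Type _ := ↥K

variable {K} (hK : Cfsg.Geo.IsFieldSubalgebra r K) (hn : 0 < n)

noncomputable instance : Field (KT K hK hn) :=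
  IsField.toField (R := ↥K)
    { exists_pair_ne := by
        have : Nonempty (Fin n) := ⟨⟨0, hn⟩⟩
        exact ⟨0, 1, fun h => zero_ne_one (congrArg Subtype.val h)⟩
      mul_comm := fun x y => Subtype.ext (hK.comm x.1 x.2 y.1 y.2)
      mul_inv_cancel := fun {a} ha => by
        obtain ⟨y, hy, hxy⟩ := hK.inv a.1 a.2 (fun h => ha (Subtype.ext h))
        exact ⟨⟨y, hy⟩, Subtype.ext hxy⟩ }

noncomputable instance : Algebra F (KT K hK hn) := (inferInstance : Algebra F ↥K)

noncomputable instance : Module (KT K hK hn) (Fin n → F) :=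
  Module.compHom (Fin n → F)
    (((Matrix.toLinAlgEquiv' (R := F) (n := Fin n)).toAlgHom.comp K.val).toRingHom : ↥K →+* _)

/-- the underlying matrix. -/
def KT.mat (k : KT K hK hn) : Matrix (Fin n) (Fin n) F := Subtype.val (p := fun x => x ∈ K) k

lemma KT.mat_mem (k : KT K hK hn) : k.mat ∈ K := Subtype.property (p := fun x => x ∈ K) k

lemma KT.smul_def (k : KT K hK hn) (v : Fin n → F) : k • v = k.mat.mulVec v := rfl

lemma KT.smul_mat (a : F) (k : KT K hK hn) : (a • k).mat = a • k.mat := rfl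

instance : IsScalarTower F (KT K hK hn) (Fin n → F) := ⟨by
  intro a k v
  rw [KT.smul_def, KT.smul_def, KT.smul_mat, Matrix.smul_mulVec]⟩

instance : Finite (KT K hK hn) := (inferInstance : Finite ↥K)

lemma KT.finrank_eq : finrank F (KT K hK hn) = r := hK.finrank_eq

/-- an element of the subalgebra as an element of the field. -/
def KT.mk (m : Matrix (Fin n) (Fin n) F) (hm : m ∈ K) : KT K hK hn := (⟨m, hm⟩ : ↥K)

lemma KT.mat_mk (m : Matrix (Fin n) (Fin n) F) (hm : m ∈ K) : (KT.mk hK hn m hm).mat = m := rfl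

lemma mem_normalizer_iff (g : GL (Fin n) F) :
    g ∈ Cfsg.Geo.subalgebraNormalizer K ↔ IsSemi (KT K hK hn) (glEquiv (Fin n) F g) := by
  have hgg : ((g⁻¹ : GL (Fin n) F) : Matrix (Fin n) (Fin n) F) * (g : Matrix (Fin n) (Fin n) F) = 1 := by
    rw [← Units.val_mul, inv_mul_cancel, Units.val_one]
  have hgg' : (g : Matrix (Fin n) (Fin n) F) * ((g⁻¹ : GL (Fin n) F) : Matrix (Fin n) (Fin n) F) = 1 := by
    rw [← Units.val_mul, mul_inv_cancel, Units.val_one]
  constructor
  · intro h k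
    refine ⟨KT.mk hK hn _ ((h k.mat).1 k.mat_mem), fun v => ?_⟩
    rw [glEquiv_apply, glEquiv_apply, KT.smul_def, KT.smul_def, KT.mat_mk, Matrix.mulVec_mulVec,
      Matrix.mulVec_mulVec, mul_assoc, hgg, mul_one]
  · intro h
    have hf : ∀ m ∈ K, (g : Matrix (Fin n) (Fin n) F) * m * ((g⁻¹ : GL (Fin n) F) : Matrix (Fin n) (Fin n) F) ∈ K := by
      intro m hm
      obtain ⟨k', hk'⟩ := h (KT.mk hK hn m hm)
      have h1 : (g : Matrix (Fin n) (Fin n) F) * m = k'.mat * (g : Matrix (Fin n) (Fin n) F) := by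
        apply Matrix.mulVec_injective
        funext v
        have := hk' v
        rw [glEquiv_apply, glEquiv_apply, KT.smul_def, KT.smul_def, KT.mat_mk, Matrix.mulVec_mulVec,
          Matrix.mulVec_mulVec] at this
        exact this
      rw [h1, mul_assoc, hgg', mul_one]
      exact k'.mat_mem
    intro m
    refine ⟨hf m, fun hm => ?_⟩
    let φ : ↥K → ↥K := fun x => ⟨_, hf x.1 x.2⟩
    have hinj : Function.Injective φ := by
      intro x y hxy
      have h2 : (g : Matrix (Fin n) (Fin n) F) * x.1 * ((g⁻¹ : GL (Fin n) F) : Matrix (Fin n) (Fin n) F)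
          = (g : Matrix (Fin n) (Fin n) F) * y.1 * ((g⁻¹ : GL (Fin n) F) : Matrix (Fin n) (Fin n) F) :=
        congrArg Subtype.val hxy
      apply Subtype.ext
      calc x.1 = ((g⁻¹ : GL (Fin n) F) : Matrix (Fin n) (Fin n) F) * ((g : Matrix (Fin n) (Fin n) F) * x.1 *
            ((g⁻¹ : GL (Fin n) F) : Matrix (Fin n) (Fin n) F)) * (g : Matrix (Fin n) (Fin n) F) := by
            rw [mul_assoc, mul_assoc, hgg, mul_one, ← mul_assoc, hgg, one_mul]
        _ = y.1 := by
            rw [h2, mul_assoc, mul_assoc, hgg, mul_one, ← mul_assoc, hgg, one_mul]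
    obtain ⟨x, hx⟩ := (Finite.injective_iff_surjective.1 hinj) ⟨_, hm⟩
    have h2 : (g : Matrix (Fin n) (Fin n) F) * x.1 * ((g⁻¹ : GL (Fin n) F) : Matrix (Fin n) (Fin n) F)
        = (g : Matrix (Fin n) (Fin n) F) * m * ((g⁻¹ : GL (Fin n) F) : Matrix (Fin n) (Fin n) F) :=
      congrArg Subtype.val hx
    have h3 : m = x.1 := by
      calc m = ((g⁻¹ : GL (Fin n) F) : Matrix (Fin n) (Fin n) F) * ((g : Matrix (Fin n) (Fin n) F) * m *
            ((g⁻¹ : GL (Fin n) F) : Matrix (Fin n) (Fin n) F)) * (g : Matrix (Fin n) (Fin n) F) := by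
            rw [mul_assoc, mul_assoc, hgg, mul_one, ← mul_assoc, hgg, one_mul]
        _ = x.1 := by
            rw [← h2, mul_assoc, mul_assoc, hgg, mul_one, ← mul_assoc, hgg, one_mul]
    rw [h3]
    exact x.2

include hK in
/-- the statement of S5886, given `Helper83.Ext.main`. -/
theorem wrap (hr : r.Prime) (hlt : r < n) :
    IsCoatom (Cfsg.Geo.subalgebraNormalizer K) ∧
      Cfsg.Geo.IsMaximalIn (Cfsg.Geo.specialLinear (Fin n) F)
        (Cfsg.Geo.subalgebraNormalizer K ⊓ Cfsg.Geo.specialLinear (Fin n) F) := by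
  have hn : 0 < n := by omega
  have hr2 := hr.two_le
  have : FiniteDimensional (KT K hK hn) (Fin n → F) := Module.Finite.of_finite
  exact wrapAbs' (KT K hK hn) (by rw [KT.finrank_eq]; exact hr) (by rw [KT.finrank_eq]; exact hlt) _
    (mem_normalizer_iff hK hn)

end conc

end Cfsg.Agent.Lib.Helper70.ExtW
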