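import Cfsg.Agent.Lib.Helper85.FusResLimit2
import Cfsg.Agent.Lib.Helper85.PIdxFrat
import Cfsg.Agent.Lib.Helper85.SatNormal2
import Cfsg.Agent.S5114
import Cfsg.Agent.S5119
import Cfsg.Agent.S5120

set_option autoImplicit false

/-! Piece RED-A of helper85's S5202 farm (helper70): a saturated subsystem of `p`-power index in a
subsystem of index prime to `p` has index prime to `p` in the subsystem of `p`-power index. -/

namespace Cfsg.Agent.Lib.Helper70.RedA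

open Cfsg Cfsg.FusionSystem Cfsg.Agent.Lib.Helper84 Cfsg.Agent.Lib.Helper85

variable {Ω : Type*} [Group Ω] {S : Subgroup Ω}

/-- strong invariance, on automorphism groups. -/
theorem congr_mem_of_invariant [Finite S] {p : ℕ} [Fact p.Prime] (hS : IsPGroup p S)
    (F : FusionSystem S) (hF : F.IsSaturated p) {T : Subgroup Ω} (E : FusionSystem T)
    (hinv : E.IsInvariantIn F) {P Q : Subgroup Ω} (hPT : P ≤ T) {e : P ≃* Q}
    (he : Mor F e.toMonoidHom) {α : MulAut P} (hα : α ∈ E.autGroup P) :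
    MulAut.congr e α ∈ E.autGroup Q := by
  have hQT : Q ≤ T := by
    intro y hy
    have := hinv.2.1.2 P hPT _ he (e.symm ⟨y, hy⟩)
    simpa using this
  obtain ⟨χ, hχ, hχ'⟩ := (Cfsg.Agent.S5119.result p hS F hF E hinv.1 hinv.2.1).1 hinv P P le_rfl
    hPT (P.subtype.comp α.toMonoidHom) ((mem_autGroup_iff E hPT α).1 hα) (fun x => (α x).2)
    (Q.subtype.comp e.toMonoidHom) he
  rw [mem_autGroup_iff E hQT]
  have hle : Q ≤ (P.subgroupOf P).map (Q.subtype.comp e.toMonoidHom) := by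
    intro y hy
    exact ⟨e.symm ⟨y, hy⟩, by simp, by simp⟩
  refine Helper85.mem_of_eq_on E hχ hle (fun y => ?_)
  have h1 : (Q.subtype.comp e.toMonoidHom) (Subgroup.inclusion le_rfl (e.symm y)) = (y : Ω) := by
    show ((e (e.symm y) : Q) : Ω) = y
    rw [MulEquiv.apply_symm_apply]
  have h2 := hχ' (e.symm y) (by rw [h1]; exact hle y.2)
  have h3 : (⟨(Q.subtype.comp e.toMonoidHom) (Subgroup.inclusion le_rfl (e.symm y)),
      by rw [h1]; exact hle y.2⟩ : ((P.subgroupOf P).map (Q.subtype.comp e.toMonoidHom) : Subgroup Ω))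
      = ⟨y, hle y.2⟩ := Subtype.ext h1
  rw [h3] at h2
  rw [h2]
  rfl

theorem conj_mem_of_invariant [Finite S] {p : ℕ} [Fact p.Prime] (hS : IsPGroup p S)
    (F : FusionSystem S) (hF : F.IsSaturated p) {T : Subgroup Ω} (E : FusionSystem T)
    (hinv : E.IsInvariantIn F) {P : Subgroup Ω} (hPT : P ≤ T) {γ ε : MulAut P}
    (hγ : γ ∈ F.autGroup P) (hε : ε ∈ E.autGroup P) : γ * ε * γ⁻¹ ∈ E.autGroup P := by
  have h1 := congr_mem_of_invariant hS F hF E hinv hPT (e := γ)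
    ((mem_autGroup_iff F (hPT.trans hinv.2.1.1) γ).1 hγ) hε
  have h2 : MulAut.congr γ ε = γ * ε * γ⁻¹ := by
    ext x
    rfl
  rwa [h2] at h1

/-- `Aut_H(Q)` is a Sylow subgroup of `Aut_{F₁}(Q)` for `Q ≤ H` fully normalized in `F`. -/
theorem sylIn_autInducedBy [Finite S] {p : ℕ} [Fact p.Prime] (hS : IsPGroup p S)
    (F : FusionSystem S) (hF : F.IsSaturated p) {H : Subgroup Ω} (hH : F.StronglyClosed H)
    (F₁ : FusionSystem H) (hF₁ : F₁.IsSaturated p) (hsub : F₁.IsSubsystemOf F)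
    {Q : Subgroup Ω} (hQH : Q ≤ H) (hQ : F.IsFullyNormalized Q) :
    SylIn p (autInducedBy H Q) (F₁.autGroup Q) := by
  have hHS := hH.1
  have hHp : IsPGroup p H := hS.to_le hHS
  obtain ⟨-, hQa, hQr⟩ := sat_fullyNormalized hS hF hQ
  obtain ⟨Q₁, hQQ₁, hQ₁a, -⟩ := hF₁ Q hQH
  obtain ⟨e, he⟩ := (isConj_iff F₁).1 hQQ₁
  have hQ₁H : Q₁ ≤ H := hQ₁a.1
  have hQ₁S : Q₁ ≤ S := hQ₁H.trans hHS
  have hc : F.IsConj Q₁ Q := (isConj_iff F).2 ⟨e.symm, hsub _ he.symm⟩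
  obtain ⟨φ, hφ, hφN, hmap⟩ := exists_normalizer_hom hS F hQa hQr hc
  have hfin : Finite (MulAut Q) := finite_mulAut_of_le hQ.1
  have hfin₁ : Finite (MulAut Q₁) := finite_mulAut_of_le hQ₁S
  obtain ⟨e₁, he₁⟩ : ∃ e₁ : Q₁ ≃* Q, e₁ = restrictEquiv φ (F.injective_of_mem hφ)
    (Helper84.le_normalizerIn hQ₁S) hmap := ⟨_, rfl⟩
  have he₁a : ∀ x : Q₁, ((e₁ x : Q) : Ω) = φ ⟨x, Helper84.le_normalizerIn hQ₁S x.2⟩ := by
    intro x; rw [he₁]; rfl
  have hmaple : (autInducedBy H Q₁).map (MulAut.congr e₁).toMonoidHom ≤ autInducedBy H Q := by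
    rintro _ ⟨γ, hγ, rfl⟩
    obtain ⟨n, hn, hn'⟩ := (mem_autInducedBy_iff _ _ _).1 hγ
    have hnN : n ∈ normalizerIn S Q₁ := ⟨hHS hn, mem_normalizer_of_induces hn'⟩
    have hzle : Subgroup.zpowers n ≤ normalizerIn S Q₁ := by
      rw [Subgroup.zpowers_le]; exact hnN
    have hzH : Subgroup.zpowers n ≤ H := by
      rw [Subgroup.zpowers_le]; exact hn
    have hφn : φ ⟨n, hnN⟩ ∈ H :=
      hH.2 _ hzH _ (Helper85.restrict_mem F hφ hzle) ⟨n, Subgroup.mem_zpowers n⟩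
    refine (mem_autInducedBy_iff _ _ _).2 ⟨φ ⟨n, hnN⟩, hφn, fun y => ?_⟩
    show ((e₁ (γ (e₁.symm y)) : Q) : Ω) = _
    rw [he₁a]
    have h1 : (y : Ω) = φ ⟨e₁.symm y, Helper84.le_normalizerIn hQ₁S (e₁.symm y).2⟩ := by
      rw [← he₁a, MulEquiv.apply_symm_apply]
    conv_rhs => rw [h1]
    rw [← map_inv, ← map_mul, ← map_mul]
    congr 1
    exact Subtype.ext (hn' _)
  have hcard : Nat.card (autInducedBy H Q₁) ≤ Nat.card (autInducedBy H Q) := by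
    have h1 : Nat.card ((autInducedBy H Q₁).map (MulAut.congr e₁).toMonoidHom) =
        Nat.card (autInducedBy H Q₁) :=
      Subgroup.card_map_of_injective (MulAut.congr e₁).injective
    rw [← h1]
    exact Subgroup.card_le_of_le hmaple
  have hS₁ : SylIn p (autInducedBy H Q₁) (F₁.autGroup Q₁) := hQ₁a.2
  apply sylIn_of_card_le (autInducedBy_le_autGroup F₁ hQH) (isPGroup_autInducedBy hHp Q)
  rw [card_autGroup_eq he, ← (sylIn_iff_card (autInducedBy_le_autGroup F₁ hQ₁H)).mp hS₁]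
  exact hcard

theorem factA [Finite S] {p : ℕ} [Fact p.Prime] (hS : IsPGroup p S) (F : FusionSystem S)
    (hF : F.IsSaturated p) (F₂ : FusionSystem S) (hF₂ : F₂.IsSaturated p)
    (h₂ : F₂.HasPrimeToPIndexIn F p) {H : Subgroup Ω} (hH : F.StronglyClosed H)
    (F₁ : FusionSystem H) (hF₁ : F₁.IsSaturated p) (h₁ : F₁.HasPPowerIndexIn F p)
    (D : FusionSystem H) (hD : D.IsSaturated p) (hD₂ : D.HasPPowerIndexIn F₂ p) :
    D.HasPrimeToPIndexIn F₁ p := by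
  have hHS := hH.1
  have hfinH : Finite H := finite_of_le hHS
  have hHp : IsPGroup p H := hS.to_le hHS
  have hDF : D.IsSubsystemOf F := fun P φ hφ => h₂.1 P (hD₂.1 P hφ)
  have hDF₁ : D ≤ F₁ := le_of_hasPPowerIndexIn F hHp D F₁ hD hDF h₁
  refine ⟨hDF₁, fun P hP => ?_⟩
  rw [map_closure_pElt]
  unfold pElt
  rw [Subgroup.closure_le]
  rintro α ⟨hα, k, hk⟩
  have hPS : P ≤ S := hP.trans hHS
  have hHn : (H.subgroupOf S).Normal := by
    constructor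
    intro n hn g
    rw [Subgroup.mem_subgroupOf] at hn ⊢
    exact hH.2 H le_rfl _ (F.conj_mem hHS g.2) ⟨n, hn⟩
  have hH₂ : F₂.StronglyClosed H := ⟨hHS, fun R hR φ hφ x => hH.2 R hR φ (h₂.1 R hφ) x⟩
  have inv₁ : F₁.IsInvariantIn F :=
    (Cfsg.Agent.S5120.result p hS F hF H hHS hHn h₁.2.1 F₁ hF₁ h₁).1.2.2
  have inv₂ : D.IsInvariantIn F₂ :=
    (Cfsg.Agent.S5120.result p hS F₂ hF₂ H hHS hHn hD₂.2.1 D hD hD₂).1.2.2
  have hfr : FratProp F F₂ :=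
    (Cfsg.Agent.S5114.result p hS F hF F₂ h₂.1 (fun P hPc => h₂.2 P hPc.1)).2.1
  obtain ⟨Q, hPQ, hQn⟩ := exists_fn_conj F F₂ hfr h₂.1 hPS
  obtain ⟨e₀, he₀⟩ := (isConj_iff F₂).1 hPQ
  have he₀F : Mor F e₀.toMonoidHom := h₂.1 _ he₀
  have hQS : Q ≤ S := hQn.1
  have hQH : Q ≤ H := by
    intro y hy
    have := hH.2 P hP _ he₀F (e₀.symm ⟨y, hy⟩)
    simpa using this
  obtain ⟨-, hQa, hQr⟩ := sat_fullyNormalized hS hF hQn
  have hfin : Finite (MulAut Q) := finite_mulAut_of_le hQS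
  have hαF : α ∈ F.autGroup P := autGroup_le_of_subsystem h₁.1 hP hα
  have hα₂ : α ∈ F₂.autGroup P := by
    apply h₂.2 P hPS
    rw [map_closure_pElt]
    exact mem_pElt hαF hk
  have hSyl : SylIn p (autInducedBy S Q) (F.autGroup Q) := hQa.2
  have hSyl₂ : SylIn p (autInducedBy S Q) (F₂.autGroup Q) :=
    hSyl.of_le (autInducedBy_le_autGroup F₂ hQS) (autGroup_le_of_subsystem h₂.1 hQS)
  obtain ⟨α₀, hα₀⟩ : ∃ α₀, α₀ = MulAut.congr e₀ α := ⟨_, rfl⟩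
  have hα₀2 : α₀ ∈ F₂.autGroup Q := hα₀ ▸ congr_mem_autGroup he₀ hα₂
  have hα₀1 : α₀ ∈ F₁.autGroup Q := hα₀ ▸ congr_mem_of_invariant hS F hF F₁ inv₁ hP he₀F hα
  have hα₀p : α₀ ^ p ^ k = 1 := by
    rw [hα₀, ← map_pow, ← hk, pow_orderOf_eq_one, map_one]
  obtain ⟨g, hg, hgle⟩ := hSyl₂.exists_conj_le (T := Subgroup.zpowers α₀)
    (by rw [Subgroup.zpowers_le]; exact hα₀2) (isPGroup_zpowers_of_pow hα₀p)
  have hβS : g * α₀ * g⁻¹ ∈ autInducedBy S Q :=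
    hgle ⟨α₀, Subgroup.mem_zpowers α₀, rfl⟩
  have hgF : g ∈ F.autGroup Q := autGroup_le_of_subsystem h₂.1 hQS hg
  have hβ1 : g * α₀ * g⁻¹ ∈ F₁.autGroup Q := conj_mem_of_invariant hS F hF F₁ inv₁ hQH hgF hα₀1
  have hclaim := sylIn_autInducedBy hS F hF hH F₁ hF₁ h₁.1 hQH hQn
  have hHle : autInducedBy H Q ≤ autInducedBy S Q ⊓ F₁.autGroup Q := by
    refine le_inf ?_ (autInducedBy_le_autGroup F₁ hQH)
    intro γ hγ
    obtain ⟨n, hn, hn'⟩ := (mem_autInducedBy_iff _ _ _).1 hγ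
    exact (mem_autInducedBy_iff _ _ _).2 ⟨n, hHS hn, hn'⟩
  have heq : autInducedBy H Q = autInducedBy S Q ⊓ F₁.autGroup Q :=
    (hclaim.of_le hHle inf_le_right).eq_of_isPGroup hHle
      ((isPGroup_autInducedBy hS Q).to_le inf_le_left)
  have hβH : g * α₀ * g⁻¹ ∈ autInducedBy H Q := by
    rw [heq]; exact ⟨hβS, hβ1⟩
  have hβD : g * α₀ * g⁻¹ ∈ D.autGroup Q := autInducedBy_le_autGroup D hQH hβH
  have hα₀D : α₀ ∈ D.autGroup Q := by
    have := conj_mem_of_invariant hS F₂ hF₂ D inv₂ hQH (inv_mem hg) hβD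
    simpa [mul_assoc] using this
  have := congr_mem_of_invariant hS F₂ hF₂ D inv₂ hQH he₀.symm hα₀D
  have h5 : MulAut.congr e₀.symm α₀ = α := by
    rw [hα₀]
    ext x
    simp
  rw [h5] at this
  exact this

end Cfsg.Agent.Lib.Helper70.RedA
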